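import Groth.Agent.Lib.GrpQuot.Invariant
import Mathlib.RingTheory.Spectrum.Prime.FreeLocus
import Mathlib.AlgebraicGeometry.Morphisms.Immersion

/-! # Invariant affine basic opens around generic points of a groupoid with finite source and target. -/

set_option autoImplicit false
set_option maxHeartbeats 400000
set_option linter.style.haveILetI false
set_option backward.isDefEq.respectTransparency.types false
universe u

open CategoryTheory CategoryTheory.Limits AlgebraicGeometry TopologicalSpace TensorProduct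

namespace Groth.Agent.GrpdInv19

section Alg

variable {A : Type u} [CommRing A]

/-- Prime avoidance: a basic open with equation in `I` squeezed between finitely many points and an open. -/
theorem exists_basicOpen_between {P : Set (PrimeSpectrum A)} (hP : P.Finite)
    (O : Opens (PrimeSpectrum A)) (hPO : P ⊆ O) (I : Ideal A) (hI : ∀ p ∈ P, ¬ I ≤ p.asIdeal) :
    ∃ g ∈ I, P ⊆ PrimeSpectrum.basicOpen g ∧ PrimeSpectrum.basicOpen g ≤ O := by
  classical
  obtain ⟨J, hJ⟩ := (PrimeSpectrum.isClosed_iff_zeroLocus_ideal _).1 O.2.isClosed_compl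
  have hJ' : ∀ p : PrimeSpectrum A, p ∉ O ↔ J ≤ p.asIdeal := fun p => Set.ext_iff.1 hJ p
  rcases P.eq_empty_or_nonempty with rfl | ⟨p₀, hp₀⟩
  · refine ⟨0, I.zero_mem, Set.empty_subset _, ?_⟩
    rw [PrimeSpectrum.basicOpen_zero]
    exact bot_le
  have hns : ¬ ((I * J : Ideal A) : Set A) ⊆ ⋃ p ∈ (↑hP.toFinset : Set (PrimeSpectrum A)), (p.asIdeal : Set A) := by
    intro hsub
    obtain ⟨p, hp, hle⟩ := (Ideal.subset_union_prime (f := fun p => p.asIdeal) p₀ p₀
      (fun p _ _ _ => p.isPrime)).1 hsub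
    rw [Set.Finite.mem_toFinset] at hp
    rcases p.isPrime.mul_le.1 hle with h | h
    · exact hI p hp h
    · exact (hJ' p).2 h (hPO hp)
  obtain ⟨g, hg, hgP⟩ := Set.not_subset.1 hns
  refine ⟨g, (Ideal.mul_le_inf hg).1, ?_, ?_⟩
  · intro p hp hgp
    exact hgP (Set.mem_iUnion₂.2 ⟨p, Finset.mem_coe.2 (hP.mem_toFinset.2 hp), hgp⟩)
  · intro p hp
    by_contra hn
    have h1 : J ≤ p.asIdeal := (hJ' p).1 hn
    exact hp (h1 (Ideal.mul_le_inf hg).2)

/-- Near minimal primes, the norm locus exists without flatness. -/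
theorem exists_norm_open {B : Type u} [CommRing B] [Algebra A B] [Module.Finite A B]
    [Algebra.FinitePresentation A B] :
    ∃ O : Opens (PrimeSpectrum A),
      (∀ p : PrimeSpectrum A, p.asIdeal ∈ minimalPrimes A → p ∈ O) ∧
      ∀ g : A, PrimeSpectrum.basicOpen g ≤ O → ∀ b : B, ∃ h : A, ∀ p : PrimeSpectrum A,
        h ∉ p.asIdeal ↔ g ∉ p.asIdeal ∧
          ∀ q : PrimeSpectrum B, q.comap (algebraMap A B) = p → b ∉ q.asIdeal := by
  classical
  let N := nilradical A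
  haveI : IsReduced (A ⧸ N) := (Ideal.isRadical_iff_quotient_reduced N).1 (by
    exact Ideal.radical_isRadical _)
  haveI : Module.FinitePresentation A B := Module.FinitePresentation.of_finite_of_finitePresentation _ _
  set M := (A ⧸ N) ⊗[A] B
  set θ := PrimeSpectrum.comap (Ideal.Quotient.mk N) with hθ
  have hbij : Function.Bijective θ := PrimeSpectrum.comap_quotientMk_bijective_of_le_nilradical le_rfl
  have hclosed : IsClosedMap θ :=
    (PrimeSpectrum.isClosedEmbedding_comap_of_surjective _ _ Ideal.Quotient.mk_surjective).isClosedMap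
  refine ⟨⟨(θ '' (Module.freeLocus (A ⧸ N) M)ᶜ)ᶜ,
    (hclosed _ Module.isOpen_freeLocus.isClosed_compl).isOpen_compl⟩, ?_, ?_⟩
  · rintro p hp ⟨p', hp', rfl⟩
    apply hp'
    rw [Module.mem_freeLocus]
    have hmin : p'.asIdeal ∈ minimalPrimes (A ⧸ N) := by
      refine ⟨⟨p'.isPrime, bot_le⟩, fun q hq hle => ?_⟩
      haveI := hq.1
      have hle' : (θ ⟨q, hq.1⟩).asIdeal ≤ (θ p').asIdeal := Ideal.comap_mono hle
      have := hp.2 ⟨(θ ⟨q, hq.1⟩).isPrime, bot_le⟩ hle'
      have hE : θ ⟨q, hq.1⟩ = θ p' := PrimeSpectrum.ext (le_antisymm hle' this)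
      exact le_of_eq (congrArg PrimeSpectrum.asIdeal (hbij.1 hE)).symm
    haveI : Ring.KrullDimLE 0 (Localization.AtPrime p'.asIdeal) := .of_isLocalization _ hmin _
    letI : Field (Localization.AtPrime p'.asIdeal) := Ring.KrullDimLE.isField_of_isReduced.toField
    exact Module.Free.of_divisionRing _ _
  · intro g hg b
    set g' : A ⧸ N := Ideal.Quotient.mk N g
    let A' := Localization.Away g'
    haveI : IsScalarTower A (A ⧸ N) A' := inferInstance
    haveI hproj : Module.Projective A' (A' ⊗[A] B) := by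
      rw [← Module.freeLocus_eq_univ_iff,
        ← Module.freeLocus_congr (AlgebraTensorModule.cancelBaseChange A (A ⧸ N) A' A' B),
        Set.eq_univ_iff_forall]
      intro P
      refine Module.comap_freeLocus_le ?_
      by_contra hn
      have h1 : g' ∉ (P.comap (algebraMap (A ⧸ N) A')).asIdeal := fun hg' =>
        P.isPrime.ne_top (Ideal.eq_top_of_isUnit_mem _ hg' (IsLocalization.Away.algebraMap_isUnit g'))
      exact hg (show θ (P.comap (algebraMap (A ⧸ N) A')) ∈ PrimeSpectrum.basicOpen g from h1)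
        ⟨_, hn, rfl⟩
    obtain ⟨h', hh'⟩ := FinEtQuot.exists_forall_notMem_iff (A := A') (1 ⊗ₜ[A] b : A' ⊗[A] B)
    obtain ⟨n, cbar, hc⟩ := IsLocalization.Away.surj g' h'
    obtain ⟨c, rfl⟩ := Ideal.Quotient.mk_surjective cbar
    have hc' : ∀ P : PrimeSpectrum A', h' ∉ P.asIdeal ↔ algebraMap A A' c ∉ P.asIdeal := by
      intro P
      have hu' : IsUnit ((algebraMap (A ⧸ N) A' g') ^ n) :=
        (IsLocalization.Away.algebraMap_isUnit g').pow n
      rw [show algebraMap A A' c = h' * (algebraMap (A ⧸ N) A' g') ^ n from hc.symm]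
      exact (not_congr (Ideal.mul_unit_mem_iff_mem _ hu')).symm
    refine ⟨g * c, fun p => ?_⟩
    have hNp : N ≤ p.asIdeal := nilradical_le_prime p.asIdeal
    by_cases hgp : g ∈ p.asIdeal
    · simp only [hgp, not_true_eq_false, false_and, iff_false, not_not]
      exact p.asIdeal.mul_mem_right _ hgp
    -- the point of `A'` above `p`
    let K := p.asIdeal.ResidueField
    let ρ₀ : A ⧸ N →+* K := Ideal.Quotient.lift N (algebraMap A K)
      (fun a ha => Ideal.algebraMap_residueField_eq_zero.2 (hNp ha))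
    have hunit : IsUnit (ρ₀ g') := isUnit_iff_ne_zero.2 (fun h0 => hgp (Ideal.algebraMap_residueField_eq_zero.1 h0))
    let ρ : A' →+* K := IsLocalization.Away.lift g' hunit
    have hρ : ∀ a : A, ρ (algebraMap A A' a) = algebraMap A K a := fun a =>
      IsLocalization.Away.lift_eq g' hunit (Ideal.Quotient.mk N a)
    let P : PrimeSpectrum A' := ⟨RingHom.ker ρ, RingHom.ker_isPrime ρ⟩
    have hPp : P.comap (algebraMap A A') = p := PrimeSpectrum.ext (by
      ext a
      exact (iff_of_eq (congrArg (· = 0) (hρ a))).trans Ideal.algebraMap_residueField_eq_zero)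
    have hPuniq : ∀ P' : PrimeSpectrum A', P'.comap (algebraMap A A') = p → P' = P := by
      intro P' hP'
      apply PrimeSpectrum.localization_comap_injective (R := A ⧸ N) A' (Submonoid.powers g')
      apply hbij.1
      exact hP'.trans hPp.symm
    have key : (g * c ∉ p.asIdeal ↔ algebraMap A A' c ∉ P.asIdeal) := by
      rw [p.isPrime.mul_mem_iff_mem_or_mem, not_or, and_iff_right hgp]
      exact not_congr (iff_of_eq (congrArg (c ∈ ·.asIdeal) hPp.symm))
    rw [key, ← hc', hh', and_iff_right hgp]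
    constructor
    · intro hall q hq hbq
      let Kq := q.asIdeal.ResidueField
      let σ₀ : A ⧸ N →+* Kq := Ideal.Quotient.lift N (algebraMap A Kq) (fun a ha => by
        rw [IsScalarTower.algebraMap_apply A B Kq]
        exact Ideal.algebraMap_residueField_eq_zero.2 (by rw [← hq] at hNp; exact hNp ha))
      have hu : IsUnit (σ₀ g') := isUnit_iff_ne_zero.2 (fun h0 => hgp (by
        have h1 : algebraMap A Kq g = 0 := h0
        rw [IsScalarTower.algebraMap_apply A B Kq, Ideal.algebraMap_residueField_eq_zero] at h1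
        rw [← hq]; exact h1))
      let σ : A' →ₐ[A] Kq :=
        { IsLocalization.Away.lift g' hu with
          commutes' := fun a => IsLocalization.Away.lift_eq g' hu (Ideal.Quotient.mk N a) }
      let m : A' ⊗[A] B →ₐ[A] Kq := Algebra.TensorProduct.productMap σ (IsScalarTower.toAlgHom A B Kq)
      let Q : PrimeSpectrum (A' ⊗[A] B) := ⟨RingHom.ker m.toRingHom, RingHom.ker_isPrime _⟩
      refine hall Q (hPuniq _ ?_) (show m (1 ⊗ₜ b) = 0 from ?_)
      · rw [← hq]
        ext a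
        change m (algebraMap A' (A' ⊗[A] B) (algebraMap A A' a)) = 0 ↔ algebraMap A B a ∈ q.asIdeal
        rw [Algebra.TensorProduct.algebraMap_apply, Algebra.TensorProduct.productMap_apply_tmul,
          map_one, mul_one, Algebra.algebraMap_self, RingHom.id_apply, σ.commutes,
          IsScalarTower.algebraMap_apply A B Kq, Ideal.algebraMap_residueField_eq_zero]
      · rw [Algebra.TensorProduct.productMap_apply_tmul, map_one, one_mul]
        exact Ideal.algebraMap_residueField_eq_zero.2 hbq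
    · intro hall Q hQ hbQ
      refine hall (Q.comap (Algebra.TensorProduct.includeRight : B →ₐ[A] A' ⊗[A] B).toRingHom) ?_ hbQ
      rw [← hPp, ← hQ]
      ext a
      change (1 : A') ⊗ₜ[A] algebraMap A B a ∈ Q.asIdeal ↔ algebraMap A A' a ⊗ₜ[A] (1 : B) ∈ Q.asIdeal
      rw [Algebra.algebraMap_eq_smul_one, Algebra.algebraMap_eq_smul_one, TensorProduct.smul_tmul]

end Alg

open Groth.Agent.GrpdB Groth.Agent.GrpQuot

section Sch

theorem surjective_app_of_isClosed {X Y : Scheme.{u}} (f : X ⟶ Y) [IsImmersion f] {W : Y.Opens}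
    (hW : IsAffineOpen W) (hc : IsClosed (Set.range (f ∣_ W))) :
    Function.Surjective (f.app W) := by
  haveI : IsImmersion (f ∣_ W) := IsZariskiLocalAtTarget.restrict ‹_› W
  haveI := IsClosedImmersion.of_isPreimmersion (f ∣_ W) hc
  haveI : IsAffine W.toScheme := hW
  have h := (f ∣_ W).app_surjective ⊤ (isAffineOpen_top _)
  rw [morphismRestrict_app] at h
  have hW' : W.ι ''ᵁ ⊤ = W := W.ι_image_top
  have hbij : Function.Surjective (f.app (W.ι ''ᵁ ⊤)) := by
    intro y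
    obtain ⟨a, ha⟩ := h ((X.presheaf.map (eqToHom (image_morphismRestrict_preimage f W ⊤)).op) y)
    refine ⟨a, ?_⟩
    have hinj : Function.Injective (X.presheaf.map (eqToHom (image_morphismRestrict_preimage f W ⊤)).op) :=
      (ConcreteCategory.bijective_of_isIso _).1
    exact hinj ha
  exact hW' ▸ hbij

theorem exists_invariant {S : Scheme.{u}} (G : Grpd.GroupoidScheme S) [IsFinite G.s] [IsFinite G.t]
    [LocallyOfFinitePresentation G.t] (m : ℕ) (u : Fin m → G.U)
    (hu : ∀ i (r : G.R), G.s r = u i → ∀ x : G.U, x ⤳ G.t r → x = G.t r)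
    (A : Type u) [CommRing A] (j : G.U ⟶ Spec (CommRingCat.of A)) [IsImmersion j] (I : Ideal A)
    (hI : ∀ x : G.U, j x ∉ PrimeSpectrum.zeroLocus (I : Set A))
    (hcl : IsClosed (PrimeSpectrum.zeroLocus (I : Set A) ∪ Set.range j)) :
    ∃ h ∈ I, IsAffineOpen (j ⁻¹ᵁ PrimeSpectrum.basicOpen h) ∧
      (∀ i, u i ∈ j ⁻¹ᵁ PrimeSpectrum.basicOpen h) ∧
      G.s ⁻¹ᵁ (j ⁻¹ᵁ PrimeSpectrum.basicOpen h) = G.t ⁻¹ᵁ (j ⁻¹ᵁ PrimeSpectrum.basicOpen h) := by
  classical
  set P : Set G.U := ⋃ i, G.t '' (G.s ⁻¹' {u i}) with hP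
  have hPfin : P.Finite := Set.finite_iUnion fun i => finite_orbit (u i)
  have hmax : ∀ p ∈ P, ∀ x : G.U, x ⤳ p → x = p := by
    intro p hp x hx
    obtain ⟨i, r, hr, rfl⟩ := Set.mem_iUnion.1 hp
    exact hu i r hr x hx
  -- an affine chart
  obtain ⟨g₁, hg₁I, hg₁P, -⟩ := exists_basicOpen_between (hPfin.image j) ⊤ (fun _ _ => trivial) I
    (by rintro _ ⟨x, -, rfl⟩ hle; exact hI x hle)
  have hclosed : ∀ g ∈ I, IsClosed (Set.range (j ∣_ (PrimeSpectrum.basicOpen g : (Spec (CommRingCat.of A)).Opens))) := by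
    intro g hg
    set W : (Spec (CommRingCat.of A)).Opens := PrimeSpectrum.basicOpen g
    refine isClosed_induced_iff.2 ⟨_, hcl, ?_⟩
    ext z
    constructor
    · rintro (h | ⟨x, hx⟩)
      · exact absurd (h hg) z.2
      · refine ⟨⟨x, ?_⟩, ?_⟩
        · show j x ∈ W
          rw [hx]; exact z.2
        · exact Subtype.ext ((morphismRestrict_base_coe j W _).trans hx)
    · rintro ⟨x, rfl⟩
      exact Or.inr ⟨x.1, by simp [morphismRestrict_base_coe]⟩
  have haff : ∀ g ∈ I, IsAffineOpen (j ⁻¹ᵁ PrimeSpectrum.basicOpen g) := by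
    intro g hg
    haveI : IsImmersion (j ∣_ (PrimeSpectrum.basicOpen g : (Spec (CommRingCat.of A)).Opens)) :=
      IsZariskiLocalAtTarget.restrict ‹_› _
    haveI := IsClosedImmersion.of_isPreimmersion _ (hclosed g hg)
    haveI : IsAffine (Scheme.Opens.toScheme (X := Spec (CommRingCat.of A)) (PrimeSpectrum.basicOpen g)) :=
      IsAffineOpen.Spec_basicOpen (R := CommRingCat.of A) g
    exact isAffine_of_isAffineHom (j ∣_ (PrimeSpectrum.basicOpen g : (Spec (CommRingCat.of A)).Opens))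
  set O₁ : (Spec (CommRingCat.of A)).Opens := PrimeSpectrum.basicOpen g₁
  set V₁ : G.U.Opens := j ⁻¹ᵁ O₁ with hV₁def
  have hV₁ : IsAffineOpen V₁ := haff g₁ hg₁I
  have hPV₁ : P ⊆ V₁ := fun x hx => hg₁P (Set.mem_image_of_mem j hx)
  have hB₁ : IsAffineOpen (G.t ⁻¹ᵁ V₁) := hV₁.preimage G.t
  letI := (G.t.app V₁).hom.toAlgebra
  haveI : Module.Finite Γ(G.U, V₁) Γ(G.R, G.t ⁻¹ᵁ V₁) :=
    RingHom.finite_algebraMap.1 (G.t.finite_app V₁ hV₁)
  haveI : Algebra.FinitePresentation Γ(G.U, V₁) Γ(G.R, G.t ⁻¹ᵁ V₁) := by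
    have h := HasRingHomProperty.appLE (P := @LocallyOfFinitePresentation) G.t ‹_› ⟨V₁, hV₁⟩ ⟨_, hB₁⟩ le_rfl
    rw [← Scheme.Hom.app_eq_appLE] at h
    exact h
  obtain ⟨O, hOmin, hOnorm⟩ := exists_norm_open (A := Γ(G.U, V₁)) (B := Γ(G.R, G.t ⁻¹ᵁ V₁))
  -- the open of `U` cut out by `O`
  let O' : G.U.Opens := hV₁.fromSpec ''ᵁ O
  have hO' : ∀ (x : G.U) (hx : x ∈ V₁), x ∈ O' ↔ hV₁.primeIdealOf ⟨x, hx⟩ ∈ O := by
    intro x hx
    constructor
    · rintro ⟨q, hq, rfl⟩
      exact (hV₁.fromSpec.isOpenEmbedding.injective (hV₁.fromSpec_primeIdealOf ⟨hV₁.fromSpec q, hx⟩)).symm ▸ hq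
    · exact fun h => ⟨_, h, hV₁.fromSpec_primeIdealOf _⟩
  have hPO' : P ⊆ O' := by
    intro x hx
    rw [SetLike.mem_coe, hO' x (hPV₁ hx)]
    refine hOmin _ ⟨⟨(hV₁.primeIdealOf _).isPrime, bot_le⟩, fun q hq hle => ?_⟩
    have hs : hV₁.fromSpec ⟨q, hq.1⟩ ⤳ hV₁.fromSpec (hV₁.primeIdealOf ⟨x, hPV₁ hx⟩) :=
      ((PrimeSpectrum.le_iff_specializes ⟨q, hq.1⟩ _).1 hle).map hV₁.fromSpec.continuous
    rw [hV₁.fromSpec_primeIdealOf] at hs
    have hE := hmax x hx _ hs
    exact le_of_eq (congrArg PrimeSpectrum.asIdeal (hV₁.fromSpec.isOpenEmbedding.injective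
      (a₁ := hV₁.primeIdealOf ⟨x, hPV₁ hx⟩) (a₂ := ⟨q, hq.1⟩)
      ((hV₁.fromSpec_primeIdealOf _).trans hE.symm)))
  obtain ⟨Ω, hΩ, hΩeq⟩ := j.isEmbedding.isInducing.isOpen_iff.1 (O'.2.inter V₁.2)
  obtain ⟨g, hgI, hgP, hgΩ⟩ := exists_basicOpen_between (hPfin.image j) ⟨Ω, hΩ⟩
    (by rintro _ ⟨x, hx, rfl⟩; exact (Set.ext_iff.1 hΩeq x).2 ⟨hPO' hx, hPV₁ hx⟩) I
    (by rintro _ ⟨x, -, rfl⟩ hle; exact hI x hle)
  set D : G.U.Opens := j ⁻¹ᵁ (PrimeSpectrum.basicOpen g : (Spec (CommRingCat.of A)).Opens) with hD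
  have hDO : ∀ x, x ∈ D → x ∈ O' ∧ x ∈ V₁ := fun x hx => (Set.ext_iff.1 hΩeq x).1 (hgΩ hx)
  have hPD : P ⊆ D := fun x hx => hgP (Set.mem_image_of_mem j hx)
  let gY : Γ((Spec (CommRingCat.of A)), ⊤) := (Scheme.ΓSpecIso (CommRingCat.of A)).inv g
  let gU : Γ(G.U, ⊤) := j.appTop gY
  have hgU : G.U.basicOpen gU = D := by
    rw [← Scheme.preimage_basicOpen_top, basicOpen_eq_of_affine]
  let gV : Γ(G.U, V₁) := G.U.presheaf.map (homOfLE le_top).op gU
  have hgV : G.U.basicOpen gV = V₁ ⊓ D := (Scheme.basicOpen_res _ _ _).trans (by rw [hgU])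
  have hbasic : ∀ {Z : Scheme.{u}} {V : Z.Opens} (hV : IsAffineOpen V) (f : Γ(Z, V)) (z : Z) (hz : z ∈ V),
      z ∈ Z.basicOpen f ↔ f ∉ (hV.primeIdealOf ⟨z, hz⟩).asIdeal := by
    intro Z V hV f z hz
    rw [← PrimeSpectrum.mem_basicOpen, ← hV.fromSpec_preimage_basicOpen]
    show _ ↔ hV.fromSpec _ ∈ Z.basicOpen f
    rw [hV.fromSpec_primeIdealOf]
  have hgO : PrimeSpectrum.basicOpen gV ≤ O := by
    intro q hq
    rw [← hV₁.fromSpec_preimage_basicOpen] at hq
    have h1 : hV₁.fromSpec q ∈ V₁ ⊓ D := hgV ▸ hq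
    have h2 := (hO' _ h1.1).1 (hDO _ h1.2).1
    rwa [show hV₁.primeIdealOf ⟨hV₁.fromSpec q, h1.1⟩ = q from
      hV₁.fromSpec.isOpenEmbedding.injective (hV₁.fromSpec_primeIdealOf _)] at h2
  let b : Γ(G.R, G.t ⁻¹ᵁ V₁) := G.R.presheaf.map (homOfLE le_top).op (G.s.appTop gU)
  have hb : G.R.basicOpen b = G.t ⁻¹ᵁ V₁ ⊓ G.s ⁻¹ᵁ D := by
    refine (Scheme.basicOpen_res _ _ _).trans ?_
    rw [← Scheme.preimage_basicOpen_top, hgU]
  obtain ⟨c, hc⟩ := hOnorm gV hgO b
  have hcomap : ∀ (r : G.R) (hr : r ∈ G.t ⁻¹ᵁ V₁),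
      (hB₁.primeIdealOf ⟨r, hr⟩).comap (algebraMap Γ(G.U, V₁) Γ(G.R, G.t ⁻¹ᵁ V₁)) = hV₁.primeIdealOf ⟨G.t r, hr⟩ := fun r hr => by
    rw [← IsAffineOpen.comap_primeIdealOf_appLE V₁ hV₁ (G.t ⁻¹ᵁ V₁) hB₁ le_rfl hr]
    simp [RingHom.algebraMap_toAlgebra, Scheme.Hom.app_eq_appLE]
  -- the invariant open is basic in `V₁`
  have hW : (G.U.basicOpen c : Set G.U) = core G (D : Set G.U) := by
    ext y
    rw [SetLike.mem_coe]
    constructor
    · intro hy
      have hyV : y ∈ V₁ := G.U.basicOpen_le c hy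
      rw [hbasic hV₁ c y hyV, hc] at hy
      refine mem_core.2 fun r hr => ?_
      subst hr
      have := (hbasic hB₁ b r hyV).2 (hy.2 _ (hcomap r hyV))
      rw [hb] at this
      exact this.2
    · intro hy
      have hyD : y ∈ D := core_subset _ hy
      have hyV : y ∈ V₁ := (hDO y hyD).2
      rw [hbasic hV₁ c y hyV, hc, ← hbasic hV₁ gV y hyV, hgV]
      refine ⟨⟨hyV, hyD⟩, fun q hq => ?_⟩
      have hr : hB₁.fromSpec q ∈ G.t ⁻¹ᵁ V₁ := hB₁.range_fromSpec.subset ⟨q, rfl⟩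
      have hq' : hB₁.primeIdealOf ⟨_, hr⟩ = q :=
        hB₁.fromSpec.isOpenEmbedding.injective (hB₁.fromSpec_primeIdealOf _)
      have e := hcomap _ hr
      rw [hq', hq] at e
      have e' : G.t (hB₁.fromSpec q) = y :=
        (congrArg Subtype.val (hV₁.isoSpec.hom.homeomorph.injective e)).symm
      rw [← hq', ← hbasic hB₁ b _ hr, hb]
      exact ⟨hr, mem_core.1 hy _ e'⟩
  -- lift the equation to `A`
  obtain ⟨c', hc'⟩ := surjective_app_of_isClosed j (W := O₁) (IsAffineOpen.Spec_basicOpen (R := CommRingCat.of A) g₁)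
    (hclosed g₁ hg₁I) c
  letI : Algebra A Γ((Spec (CommRingCat.of A)), O₁) := StructureSheaf.openAlgebra A (Opposite.op O₁)
  haveI : IsLocalization.Away (show A from g₁) Γ((Spec (CommRingCat.of A)), O₁) := StructureSheaf.IsLocalization.to_basicOpen A g₁
  obtain ⟨n, a, ha⟩ := IsLocalization.Away.surj (show A from g₁) c'
  have hO₁c : (Spec (CommRingCat.of A)).basicOpen c' = O₁ ⊓ PrimeSpectrum.basicOpen a := by
    have h1 : (Spec (CommRingCat.of A)).basicOpen (c' * algebraMap A Γ((Spec (CommRingCat.of A)), O₁) (show A from g₁) ^ n) = (Spec (CommRingCat.of A)).basicOpen c' :=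
      Scheme.basicOpen_mul _ _ _ |>.trans (inf_eq_left.2 (((Spec (CommRingCat.of A)).basicOpen_le c').trans
        (le_of_eq (Scheme.basicOpen_of_isUnit _ ((IsLocalization.Away.algebraMap_isUnit (show A from g₁)).pow n)).symm)))
    rw [← h1, ha]
    have e : algebraMap A Γ((Spec (CommRingCat.of A)), O₁) a = (Spec (CommRingCat.of A)).presheaf.map (homOfLE le_top).op ((Scheme.ΓSpecIso (CommRingCat.of A)).inv a) := rfl
    rw [e]
    refine (Scheme.basicOpen_res _ _ _).trans ?_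
    rw [basicOpen_eq_of_affine]
  have hWh : j ⁻¹ᵁ (PrimeSpectrum.basicOpen (g₁ * a) : (Spec (CommRingCat.of A)).Opens) = G.U.basicOpen c := by
    rw [PrimeSpectrum.basicOpen_mul, ← hc', ← Scheme.preimage_basicOpen, hO₁c]
    rfl
  refine ⟨g₁ * a, I.mul_mem_right _ hg₁I, haff _ (I.mul_mem_right _ hg₁I), fun i => ?_, ?_⟩
  · show u i ∈ j ⁻¹ᵁ (PrimeSpectrum.basicOpen (g₁ * a) : (Spec (CommRingCat.of A)).Opens)
    rw [hWh, ← SetLike.mem_coe, hW]
    refine mem_core.2 fun r hr => hPD ?_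
    exact Set.mem_iUnion.2 ⟨i, G.i r, by rw [Set.mem_preimage, s_i, hr]; rfl, t_i r⟩
  · apply Opens.ext
    erw [hWh]
    rw [Scheme.Hom.coe_preimage, Scheme.Hom.coe_preimage, hW]
    exact core_invariant _

end Sch

end Groth.Agent.GrpdInv19
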